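import Groth.Agent.L21.P1Fam.Bundle
import Groth.Agent.L22.GeomConn.Irred
import Groth.Agent.L21.OmegaFam.Pow
import Groth.Agent.L21.RR.ProjLineGenus
import Groth.Agent.L26.PicSm.Dimension

/-!
Genus zero families recognised on their geometric fibres, and the module of a section.
-/

set_option autoImplicit false
set_option linter.style.haveILetI false
set_option linter.unusedSectionVars false
set_option backward.isDefEq.respectTransparency false
set_option backward.isDefEq.respectTransparency.types false

universe u

open CategoryTheory CategoryTheory.Limits AlgebraicGeometry TopologicalSpace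

noncomputable section

namespace Groth.L21.P1Fam

attribute [local instance] Groth.Agent.Elliptic.fibOver

variable {X S : Scheme.{u}} (f : X ⟶ S)

/-- The geometric point over a point of the base. -/
def geomPt (s : S) : Spec (CommRingCat.of (AlgebraicClosure (S.residueField s))) ⟶ S :=
  Spec.map (CommRingCat.ofHom (algebraMap (S.residueField s) (AlgebraicClosure (S.residueField s)))) ≫
    S.fromSpecResidueField s

theorem exists_geomFibre (s : S) :
    ∃ g : pullback f (geomPt s) ⟶ f.fiber s,
      IsPullback g (pullback.snd f (geomPt s)) (f.fiberToSpecResidueField s)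
        (Spec.map (CommRingCat.ofHom (algebraMap (S.residueField s) (AlgebraicClosure (S.residueField s))))) := by
  have hs : IsPullback (f.fiberι s) (f.fiberToSpecResidueField s) f (S.fromSpecResidueField s) :=
    IsPullback.of_hasPullback f _
  refine ⟨hs.lift (pullback.fst f (geomPt s)) (pullback.snd f (geomPt s) ≫ Spec.map (CommRingCat.ofHom
    (algebraMap (S.residueField s) (AlgebraicClosure (S.residueField s)))))
    (by rw [Category.assoc]; exact pullback.condition), ?_⟩
  refine IsPullback.of_right ?_ (hs.lift_snd _ _ _) hs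
  rw [hs.lift_fst]
  exact IsPullback.of_hasPullback f (geomPt s)

theorem geometricallyConnected_of_geom (h : ∀ s : S, ConnectedSpace ↥(pullback f (geomPt s))) :
    GeometricallyConnected f := by
  rw [GeometricallyConnected.iff_geometricallyConnected_fiber]
  intro s
  obtain ⟨g, sq⟩ := exists_geomFibre f s
  let j : f.fiber s ⟶ Spec (CommRingCat.of ↑(S.residueField s)) := f.fiberToSpecResidueField s
  haveI : ConnectedSpace ↥(FBase.bc (k := ↑(S.residueField s)) j (AlgebraicClosure (S.residueField s))) := by
    haveI := h s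
    exact sq.isoPullback.hom.surjective.connectedSpace (Scheme.Hom.continuous _)
  exact Groth.L22.GeomConn.geometricallyConnected_of_sepClosed (k := ↑(S.residueField s)) j
    (AlgebraicClosure (S.residueField s))

theorem genus0_of_geom [IsProper f]
    (h : ∀ s : S, @Curv2.genus (AlgebraicClosure (S.residueField s)) _ (pullback f (geomPt s))
      ⟨pullback.snd f (geomPt s)⟩ = 0) : Genus0 f := fun s => by
  obtain ⟨g, sq⟩ := exists_geomFibre f s
  haveI := Groth.Agent.Elliptic.isProper_fibre f s
  letI : (pullback f (geomPt s)).Over (Spec (CommRingCat.of (AlgebraicClosure (S.residueField s)))) :=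
    ⟨pullback.snd f (geomPt s)⟩
  exact (Groth.L21.RR.genus_bc (k := S.residueField s) (X := f.fiber s) (K := AlgebraicClosure (S.residueField s)) g sq).symm.trans (h s)

theorem smoothOfRelativeDimension_of_geom [IsProper f] [Smooth f] [GeometricallyConnected f]
    (h : ∀ s : S, topologicalKrullDim ↥(pullback f (geomPt s)) = 1) : SmoothOfRelativeDimension 1 f :=
  Groth.L21.OmegaFam.smoothOfRelativeDimension_one f fun s => by
    obtain ⟨g, sq⟩ := exists_geomFibre f s
    haveI : LocallyOfFiniteType (f.fiberToSpecResidueField s) := inferInstanceAs (LocallyOfFiniteType (pullback.snd f _))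
    exact (Groth.Agent.L26.PicSm.dim_baseChange_field (S.residueField s) (AlgebraicClosure (S.residueField s))
      (f.fiberToSpecResidueField s) _ _ g sq).symm.trans (h s)

/-- Families all of whose geometric fibres are lines. -/
theorem line_family [IsProper f]
    (hfib : ∀ (Ω : Type u) [Field Ω] [IsAlgClosed Ω] (b : Spec (CommRingCat.of Ω) ⟶ S),
      ∃ e : pullback f b ≅ CohB1.ProjSpace 1 Ω, e.hom ≫ CohB1.ProjSpace.toSpec 1 Ω = pullback.snd f b) :
    GeometricallyConnected f ∧ Genus0 f := by
  refine ⟨geometricallyConnected_of_geom f fun s => ?_, genus0_of_geom f fun s => ?_⟩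
  · obtain ⟨e, -⟩ := hfib _ (geomPt s)
    haveI := Groth.L16.ProjSpace.isIntegral 1 (AlgebraicClosure (S.residueField s))
    exact e.inv.surjective.connectedSpace (Scheme.Hom.continuous _)
  · obtain ⟨e, he⟩ := hfib _ (geomPt s)
    letI : (pullback f (geomPt s)).Over (Spec (CommRingCat.of (AlgebraicClosure (S.residueField s)))) :=
      ⟨pullback.snd f (geomPt s)⟩
    haveI : IsProper (pullback f (geomPt s) ↘ Spec (CommRingCat.of (AlgebraicClosure (S.residueField s)))) :=
      inferInstanceAs (IsProper (pullback.snd f (geomPt s)))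
    haveI := Groth.L21.RR.subsingleton_h1_of_iso (k := AlgebraicClosure (S.residueField s)) e he
    exact Module.finrank_zero_of_subsingleton

variable [IsProper f] [SmoothOfRelativeDimension 1 f] [GeometricallyConnected f]

open Groth.Agent.Elliptic (isInvertible_ker isClosedImmersion_section dim_fibre isIntegral_fibre isProper_fibre smooth_fibre)

/-- The ideal of a section has degree minus one on every fibre. -/
theorem deg_ker {P : S ⟶ X} (hP : P ≫ f = 𝟙 S) (s : S) :
    Curv2.deg (S.residueField s) (f.fiber s) ((Scheme.Modules.pullback (f.fiberι s)).obj (ClSub.idealMod P.ker)) 1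
      = -1 := by
  haveI := isProper_fibre f s
  haveI := smooth_fibre f s
  haveI := isIntegral_fibre f s
  haveI := isClosedImmersion_section (f := f) hP
  let g := S.fromSpecResidueField s
  let x : Spec (CommRingCat.of (S.residueField s)) ⟶ f.fiber s :=
    pullback.lift (g ≫ P) (𝟙 _) (by rw [Category.assoc, hP, Category.comp_id, Category.id_comp])
  have hx : x ≫ (f.fiber s ↘ Spec (CommRingCat.of (S.residueField s))) = 𝟙 _ := pullback.lift_snd _ _ _
  haveI : IsClosedImmersion x := isClosedImmersion_of_comp_eq_id _ _ hx
  haveI : Subsingleton ↥(Spec (CommRingCat.of (S.residueField s))) :=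
    inferInstanceAs (Subsingleton (PrimeSpectrum (S.residueField s)))
  let p₀ : f.fiber s := x (IsLocalRing.closedPoint (S.residueField s))
  have hp : IsClosed ({p₀} : Set (f.fiber s)) := by
    have h1 := x.isClosedEmbedding.isClosedMap _ isClosed_univ
    convert h1 using 1
    refine (Set.Subset.antisymm ?_ ?_).symm
    · rintro _ ⟨q, -, rfl⟩
      exact congrArg _ (Subsingleton.elim q _)
    · rintro _ rfl
      exact ⟨_, trivial, rfl⟩
  have hrat : Function.Surjective (Curv2.resMap (S.residueField s) (f.fiber s) p₀) := fun y => by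
    obtain ⟨a, rfl⟩ := (f.fiber s).residue_surjective p₀ y
    obtain ⟨c, hc⟩ := Groth.L21.RR.isRat_of_section (S.residueField s) x hx (IsLocalRing.closedPoint _) a
    refine ⟨c, ?_⟩
    have h2 : IsLocalRing.residue ((f.fiber s).presheaf.stalk p₀)
        (a - Groth.L21.RR.cstAt (S.residueField s) p₀ c) = 0 :=
      (IsLocalRing.residue_eq_zero_iff _).2 hc
    rw [map_sub, sub_eq_zero] at h2
    exact h2.symm
  have hc : P.ker.comap (f.fiberι s) = Scheme.IdealSheafData.vanishingIdeal ⟨{p₀}, hp⟩ :=
    (Groth.L02.Hilb.ker_section_comap (IsPullback.of_hasPullback f g) P hP x hx (pullback.lift_fst _ _ _)).trans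
      (Groth.L21.RR.ker_eq_vanishingIdeal_point (S.residueField s) x hp fun q => congrArg x (Subsingleton.elim q _))
  obtain ⟨α, -, hα, -⟩ := Groth.L07.PrinParts.exists_idealMap (f.fiberι s) P.ker _ hc.symm
  haveI := hα
  obtain ⟨hI, hdI⟩ := Groth.L21.Duality.deg_ptI (k := S.residueField s) (dim_fibre f s) hp
  haveI := Groth.L02.Canon.DescInvertible.isIso_of_epi_invertible α
    (Groth.L18.Ample.isInvertible_pullback _ (isInvertible_ker hP)) hI
  rw [Groth.L21.RR.deg_congr (S.residueField s) (asIso α) 1]
  refine hdI.trans ?_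
  rw [Groth.L21.RR.finrank_residueField_of_surjective (S.residueField s) hrat]
  rfl

/-- The inverse of the ideal of a section has degree one on the fibres. -/
theorem exists_deg1_of_section {P : S ⟶ X} (hP : P ≫ f = 𝟙 S) :
    ∃ L : X.Modules, PicF.IsInvertible L ∧ Deg1 f L ∧ ClSub.IsInverseOf L (ClSub.idealMod P.ker) := by
  have hI := isInvertible_ker (f := f) hP
  obtain ⟨L, hL, ⟨e⟩⟩ := Groth.L08.Cube.exists_inverse hI
  refine ⟨L, hL, fun s => ?_, ⟨Groth.L00.Tensor.tensorComm _ _ ≪≫ e⟩⟩
  haveI := isProper_fibre f s
  haveI := isIntegral_fibre f s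
  have h := Groth.L21.RR.deg_congr (S.residueField s) ((Groth.L29.DC.PullTensor.pullTensor (f.fiberι s) _ L) ≪≫ 
    (Scheme.Modules.pullback (f.fiberι s)).mapIso e ≪≫ Groth.L29.LocFree.pullbackUnitIso _) 1
  rw [Groth.L21.Duality.deg_tensor (dim_fibre f s) (Groth.L18.Ample.isInvertible_pullback _ hI)
      (Groth.L18.Ample.isInvertible_pullback _ hL), deg_ker f hP s] at h
  have h0 : Curv2.deg (S.residueField s) (f.fiber s) (Coh.structureModule (f.fiber s)) 1 = 0 := by
    rw [Curv2.deg, Nat.cast_one, one_mul, sub_self]
  rw [h0] at h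
  linarith

/-- A family of curves of genus zero with a section is a projective bundle. -/
theorem exists_isProjBundle_of_section (hg : Genus0 f) {P : S ⟶ X} (hP : P ≫ f = 𝟙 S) :
    ∃ E : S.Modules, FlatMod.IsFinLocFreeOfRank 2 E ∧
      ∃ (O1 : X.Modules) (q : (Scheme.Modules.pullback f).obj E ⟶ O1), KRR.IsProjBundle f E O1 q := by
  obtain ⟨L, hL, hd, -⟩ := exists_deg1_of_section f hP
  exact ⟨_, isFinLocFreeOfRank_push hg hL hd, _, _, isProjBundle_push hg hL hd⟩

end Groth.L21.P1Fam
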