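import Groth.Agent.L21.P1Fam.Geom
import Groth.Agent.L21.Smooth.SepPoints
import Groth.Agent.L05.Hensel.Perm
import Groth.Agent.S5038

/-!
Families of pointed curves of genus zero are locally trivial.
-/

set_option autoImplicit false
set_option linter.style.haveILetI false
set_option linter.unusedSectionVars false
set_option backward.isDefEq.respectTransparency false
set_option backward.isDefEq.respectTransparency.types false

universe u

open CategoryTheory CategoryTheory.Limits AlgebraicGeometry TopologicalSpace

noncomputable section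

namespace Groth.L21.P1Fam

attribute [local instance] Groth.Agent.Elliptic.fibOver

variable {X S : Scheme.{u}}

theorem exists_local_triv (f : X ⟶ S) [IsProper f] [SmoothOfRelativeDimension 1 f] [GeometricallyConnected f]
    (hg : Genus0 f) {σ : S ⟶ X} (hσ : σ ≫ f = 𝟙 S) (s : S) :
    ∃ (V : S.Opens) (hV : IsAffineOpen V), s ∈ V ∧ ∃ e : pullback f hV.fromSpec ≅ CohB1.ProjSpace 1 Γ(S, V),
      e.hom ≫ CohB1.ProjSpace.toSpec 1 Γ(S, V) = pullback.snd f hV.fromSpec := by
  obtain ⟨E, hE, O1, q, hP⟩ := exists_isProjBundle_of_section f hg hσ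
  obtain ⟨A⟩ := Groth.L12.KBun.exists_atlas hP (r := 1) hE
  exact ⟨A.V s, A.affine s, A.mem s, IsPullback.isoIsPullback _ _ (IsPullback.of_hasPullback _ _) (A.isPullback s),
    IsPullback.isoIsPullback_hom_snd _ _ _ _⟩

/-- The geometric fibres of a family over an Artinian local ring with algebraically closed residue field. -/
theorem geom_local (C : Type u) [CommRing C] [IsArtinianRing C] [IsLocalRing C]
    [IsAlgClosed (IsLocalRing.ResidueField C)] {X : Scheme.{u}} (f : X ⟶ Spec (CommRingCat.of C)) [IsProper f]
    (hint : IsIntegral (pullback f (Spec.map (CommRingCat.ofHom (IsLocalRing.residue C)))))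
    (hdim : topologicalKrullDim ↥(pullback f (Spec.map (CommRingCat.ofHom (IsLocalRing.residue C)))) = 1)
    (hg : @Curv2.genus (IsLocalRing.ResidueField C) _ (pullback f (Spec.map (CommRingCat.ofHom (IsLocalRing.residue C))))
        ⟨pullback.snd f (Spec.map (CommRingCat.ofHom (IsLocalRing.residue C)))⟩ = 0)
    (s : Spec (CommRingCat.of C)) :
    ConnectedSpace ↥(pullback f (geomPt s)) ∧ topologicalKrullDim ↥(pullback f (geomPt s)) = 1 ∧
      @Curv2.genus (AlgebraicClosure ((Spec (CommRingCat.of C)).residueField s)) _ (pullback f (geomPt s))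
        ⟨pullback.snd f (geomPt s)⟩ = 0 := by
  let k := IsLocalRing.ResidueField C
  let K := AlgebraicClosure ((Spec (CommRingCat.of C)).residueField s)
  let x₀ := Spec.map (CommRingCat.ofHom (IsLocalRing.residue C))
  let ψ : C →+* K := (Spec.preimage (geomPt s)).hom
  haveI : IsLocalHom ψ := ⟨fun a ha => by
    by_contra hna
    have hnil : IsNilpotent a := by
      exact nilpotent_iff_mem_prime.2 fun J hJ => (IsLocalRing.eq_maximalIdeal
        (haveI := hJ; IsArtinianRing.isMaximal_of_isPrime J)) ▸ ((IsLocalRing.mem_maximalIdeal a).2 hna)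
    exact ha.ne_zero (isNilpotent_iff_eq_zero.1 (hnil.map ψ))⟩
  let ι : k →+* K := IsLocalRing.ResidueField.lift ψ
  letI : Algebra k K := ι.toAlgebra
  let u : Spec (CommRingCat.of K) ⟶ Spec (CommRingCat.of k) := Spec.map (CommRingCat.ofHom (algebraMap k K))
  have hfac : u ≫ x₀ = geomPt s := by
    rw [← Spec.map_comp, ← Spec.map_preimage (geomPt s)]
    congr 1
  have hb := IsPullback.of_hasPullback f x₀
  have hgm := IsPullback.of_hasPullback f (geomPt s)
  let g : pullback f (geomPt s) ⟶ pullback f x₀ := hb.lift (pullback.fst f (geomPt s)) (pullback.snd f (geomPt s) ≫ u)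
    (by rw [Category.assoc, hfac]; exact pullback.condition)
  have sq : IsPullback g (pullback.snd f (geomPt s)) (pullback.snd f x₀) u := by
    refine IsPullback.of_right ?_ (hb.lift_snd _ _ _) hb
    rw [hb.lift_fst, hfac]
    exact hgm
  letI : (pullback f x₀).Over (Spec (CommRingCat.of k)) := ⟨pullback.snd f x₀⟩
  letI : (pullback f (geomPt s)).Over (Spec (CommRingCat.of K)) := ⟨pullback.snd f (geomPt s)⟩
  haveI : IsProper (pullback f x₀ ↘ Spec (CommRingCat.of k)) := inferInstanceAs (IsProper (pullback.snd f x₀))
  refine ⟨?_, ?_, (Groth.L21.RR.genus_bc (k := k) (K := K) g sq).trans hg⟩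
  · let p : pullback f x₀ ⟶ Spec (CommRingCat.of k) := pullback.snd f x₀
    haveI := hint
    haveI : ConnectedSpace ↥(FBase.bc p k) := by
      let φ := Spec.map (CommRingCat.ofHom (algebraMap k k))
      haveI : IsIso φ := by
        simp only [φ, Algebra.algebraMap_self]
        rw [show CommRingCat.ofHom (RingHom.id k) = 𝟙 (CommRingCat.of k) from rfl, Spec.map_id]
        infer_instance
      exact (inv (pullback.fst p φ)).surjective.connectedSpace (Scheme.Hom.continuous _)
    haveI := Groth.L22.GeomConn.geometricallyConnected_of_sepClosed p k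
    haveI : GeometricallyConnected (pullback.snd f (geomPt s)) :=
      MorphismProperty.of_isPullback (P := @GeometricallyConnected) sq inferInstance
    haveI : Subsingleton ↥(Spec (CommRingCat.of K)) := inferInstanceAs (Subsingleton (PrimeSpectrum K))
    exact GeometricallyConnected.connectedSpace_of_subsingleton (pullback.snd f (geomPt s))
  · haveI : LocallyOfFiniteType (pullback.snd f x₀) := inferInstance
    exact (Groth.Agent.L26.PicSm.dim_baseChange_field k K (pullback.snd f x₀) _ _ g sq).trans hdim

/-- A family of genus zero over an Artinian local ring with algebraically closed residue field is trivial. -/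
theorem exists_triv_artin (C : Type u) [CommRing C] [IsArtinianRing C] [IsLocalRing C]
    [IsAlgClosed (IsLocalRing.ResidueField C)] {X : Scheme.{u}} (f : X ⟶ Spec (CommRingCat.of C)) [Smooth f] [IsProper f]
    (hint : IsIntegral (pullback f (Spec.map (CommRingCat.ofHom (IsLocalRing.residue C)))))
    (hdim : topologicalKrullDim ↥(pullback f (Spec.map (CommRingCat.ofHom (IsLocalRing.residue C)))) = 1)
    (hg : @Curv2.genus (IsLocalRing.ResidueField C) _ (pullback f (Spec.map (CommRingCat.ofHom (IsLocalRing.residue C))))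
        ⟨pullback.snd f (Spec.map (CommRingCat.ofHom (IsLocalRing.residue C)))⟩ = 0) :
    ∃ e : X ≅ CohB1.ProjSpace 1 C, e.hom ≫ CohB1.ProjSpace.toSpec 1 C = f := by
  have H := geom_local C f hint hdim hg
  haveI := geometricallyConnected_of_geom f fun s => (H s).1
  haveI := smoothOfRelativeDimension_of_geom f fun s => (H s).2.1
  have hg0 : Genus0 f := genus0_of_geom f fun s => (H s).2.2
  let x₀ := Spec.map (CommRingCat.ofHom (IsLocalRing.residue C))
  letI : (pullback f x₀).Over (Spec (CommRingCat.of (IsLocalRing.ResidueField C))) := ⟨pullback.snd f x₀⟩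
  haveI : Smooth (pullback f x₀ ↘ Spec (CommRingCat.of (IsLocalRing.ResidueField C))) :=
    inferInstanceAs (Smooth (pullback.snd f x₀))
  haveI := hint
  obtain ⟨t, ht⟩ := Groth.L21.SepPoints.exists_section (k := IsLocalRing.ResidueField C) (pullback f x₀)
    (W := ⊤) (x := genericPoint ↥(pullback f x₀)) trivial
  haveI : HenselianLocalRing C := Groth.L05.henselianLocalRing_of_ringKrullDim_eq_zero
    (le_antisymm (Ring.krullDimLE_iff.1 inferInstance) ringKrullDim_nonneg_of_nontrivial)
  have hu : (t ≫ pullback.fst f x₀) ≫ f = x₀ := by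
    rw [Category.assoc, pullback.condition, ← Category.assoc]
    exact (congrArg (· ≫ x₀) ht).trans (Category.id_comp _)
  obtain ⟨σ, hσ, -⟩ := Groth.Agent.S5038.result C f (t ≫ pullback.fst f x₀) hu
  obtain ⟨V, hV, hs, e, he⟩ := exists_local_triv f hg0 hσ (IsLocalRing.closedPoint C)
  obtain rfl : V = ⊤ := by
    refine top_unique fun x _ => ?_
    haveI : Subsingleton ↥(Spec (CommRingCat.of C)) :=
      ⟨fun a b => PrimeSpectrum.ext (by
        have ha := IsArtinianRing.isMaximal_of_isPrime a.asIdeal
        have hb := IsArtinianRing.isMaximal_of_isPrime b.asIdeal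
        rw [IsLocalRing.eq_maximalIdeal ha, IsLocalRing.eq_maximalIdeal hb])⟩
    exact Subsingleton.elim (IsLocalRing.closedPoint C) x ▸ hs
  let i := (Scheme.ΓSpecIso (CommRingCat.of C)).inv
  have h2 := Groth.L16.ProjSpace.isPullback_map 1 i.hom
  haveI : IsIso (Spec.map i) := inferInstance
  haveI : IsIso (Spec.map (CommRingCat.ofHom i.hom)) := inferInstanceAs (IsIso (Spec.map i))
  haveI : IsIso (Groth.L16.ProjSpace.map 1 i.hom) := by rw [← h2.isoPullback_hom_fst]; infer_instance
  have h3 := (IsPullback.of_hasPullback f hV.fromSpec)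
  haveI : IsIso hV.fromSpec := by rw [IsAffineOpen.fromSpec_top]; infer_instance
  haveI : IsIso (pullback.fst f hV.fromSpec) := inferInstance
  refine ⟨(asIso (pullback.fst f hV.fromSpec)).symm ≪≫ e ≪≫ asIso (Groth.L16.ProjSpace.map 1 i.hom), ?_⟩
  simp only [Iso.trans_hom, Iso.symm_hom, asIso_inv, asIso_hom, Category.assoc, IsIso.inv_comp_eq]
  rw [h2.w, reassoc_of% he, pullback.condition]
  congr 1
  rw [IsAffineOpen.fromSpec_top, Scheme.isoSpec_Spec_inv]
  rfl

end Groth.L21.P1Fam
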