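import Groth.Prelude.Def_ModFun
import Groth.Agent.L21.P1Fam.Local

/-!
The moduli problem of curves of genus zero.
-/

set_option autoImplicit false
set_option linter.style.haveILetI false
set_option linter.unusedSectionVars false
set_option backward.isDefEq.respectTransparency false
set_option backward.isDefEq.respectTransparency.types false

universe u

open CategoryTheory CategoryTheory.Limits AlgebraicGeometry TopologicalSpace

noncomputable section

namespace Groth.L21.P1Fam

attribute [local instance] Groth.Agent.Elliptic.fibOver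

theorem geometricallyConnected_of_irreducible {X Y : Scheme.{u}} (f : X ⟶ Y) [h : GeometricallyIrreducible f] :
    GeometricallyConnected f := by
  refine ⟨fun K _ y Z p q sq => ?_⟩
  haveI : IrreducibleSpace Z := h.1 y p q sq
  infer_instance

theorem isCurveOfGenus_baseChange {C T C' T' : Scheme.{u}} {p : C ⟶ T} {g : ℕ} (hp : ModFun.IsCurveOfGenus g p)
    {p' : C' ⟶ T'} {i : C' ⟶ C} {j : T' ⟶ T} (sq : IsPullback i p' p j) : ModFun.IsCurveOfGenus g p' :=
  ⟨MorphismProperty.of_isPullback (P := @Smooth) sq hp.1, MorphismProperty.of_isPullback (P := @IsProper) sq hp.2.1,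
    MorphismProperty.of_isPullback (P := @GeometricallyIrreducible) sq hp.2.2.1,
    fun Ω _ _ t X i' q hq => hp.2.2.2 Ω (t ≫ j) X (i' ≫ i) q (hq.paste_horiz sq)⟩

theorem geom_line {S X : Scheme.{u}} {f : X ⟶ S} (h : ModFun.IsCurveOfGenus 0 f) (s : S) :
    topologicalKrullDim ↥(pullback f (geomPt s)) = 1 ∧
      @Curv2.genus (AlgebraicClosure (S.residueField s)) _ (pullback f (geomPt s))
        ⟨pullback.snd f (geomPt s)⟩ = 0 :=
  h.2.2.2 _ (geomPt s) _ _ _ (IsPullback.of_hasPullback f (geomPt s))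

theorem isCurveOfGenus_projSpace (k : Type u) [Field k] :
    ModFun.IsCurveOfGenus 0 (CohB1.ProjSpace.toSpec 1 k) := by
  have key : ∀ (Ω : Type u) [Field Ω] (t : Spec (CommRingCat.of Ω) ⟶ Spec (CommRingCat.of k)) (X : Scheme.{u})
      (i : X ⟶ CohB1.ProjSpace 1 k) (q : X ⟶ Spec (CommRingCat.of Ω)), IsPullback i q (CohB1.ProjSpace.toSpec 1 k) t →
      ∃ e : X ≅ CohB1.ProjSpace 1 Ω, e.hom ≫ CohB1.ProjSpace.toSpec 1 Ω = q := fun Ω _ t X i q sq => by
    have h := Groth.L16.ProjSpace.isPullback_map 1 (Spec.preimage t).hom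
    rw [show CommRingCat.ofHom (Spec.preimage t).hom = Spec.preimage t from rfl, Spec.map_preimage] at h
    exact ⟨sq.isoIsPullback _ _ h, IsPullback.isoIsPullback_hom_snd _ _ _ _⟩
  haveI : IsProper (CohB1.ProjSpace.toSpec 1 k) := Groth.L16.ProjSpace.isProper_toSpec (n := 1) (R := k)
  haveI : Smooth (CohB1.ProjSpace.toSpec 1 k) := Groth.L16.ProjSpace.smooth_toSpec (n := 1) (R := k)
  haveI := (line_family (CohB1.ProjSpace.toSpec 1 k) fun Ω _ _ b => key Ω b _ _ _ (IsPullback.of_hasPullback _ _)).1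
  refine ⟨inferInstance, inferInstance, geometricallyIrreducible_family _, fun Ω _ _ t X i q sq => ?_⟩
  obtain ⟨e, he⟩ := key Ω t X i q sq
  haveI : IsProper q := MorphismProperty.of_isPullback (P := @IsProper) sq inferInstance
  letI : X.Over (Spec (CommRingCat.of Ω)) := ⟨q⟩
  haveI : IsProper (X ↘ Spec (CommRingCat.of Ω)) := ‹IsProper q›
  refine ⟨?_, ?_⟩
  · rw [IsHomeomorph.topologicalKrullDim_eq _ e.hom.homeomorph.isHomeomorph]
    exact Groth.L16.ProjSpace.topologicalKrullDim_eq_of_field 1 Ω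
  · haveI := Groth.L21.RR.subsingleton_h1_of_iso (k := Ω) e he
    exact Module.finrank_zero_of_subsingleton

/-- Over an algebraically closed field there is one curve of genus zero. -/
theorem exists_iso_line (Ω : Type u) [Field Ω] [IsAlgClosed Ω] {X : Scheme.{u}} (q : X ⟶ Spec (CommRingCat.of Ω))
    (h : ModFun.IsCurveOfGenus 0 q) : ∃ e : X ≅ CohB1.ProjSpace 1 Ω, e.hom ≫ CohB1.ProjSpace.toSpec 1 Ω = q := by
  letI : X.Over (Spec (CommRingCat.of Ω)) := ⟨q⟩
  haveI : Smooth q := h.1
  haveI : IsProper q := h.2.1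
  haveI : GeometricallyIrreducible q := h.2.2.1
  haveI := geometricallyConnected_of_irreducible q
  haveI : GeometricallyIntegral q := Groth.L21.Disc.geometricallyIntegral_of_smooth q
  haveI : Subsingleton ↥(Spec (CommRingCat.of Ω)) := inferInstanceAs (Subsingleton (PrimeSpectrum Ω))
  haveI : IsIntegral X := GeometricallyIntegral.isIntegral_of_subsingleton q
  haveI : IsProper (X ↘ Spec (CommRingCat.of Ω)) := ‹IsProper q›
  haveI : Smooth (X ↘ Spec (CommRingCat.of Ω)) := ‹Smooth q›
  obtain ⟨hd, hg⟩ := h.2.2.2 Ω (𝟙 _) X (𝟙 X) q (IsPullback.of_horiz_isIso ⟨by simp⟩)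
  exact Groth.L21.RR.exists_iso_projLine_of_isAlgClosed Ω hd hg

/-- After base change to itself a curve of genus zero is locally a line. -/
theorem exists_local_line {C T : Scheme.{u}} (p : C ⟶ T) (hp : ModFun.IsCurveOfGenus 0 p) (c : C) :
    ∃ (V : C.Opens) (hV : IsAffineOpen V), c ∈ V ∧
      ∃ e : pullback p (hV.fromSpec ≫ p) ≅ CohB1.ProjSpace 1 Γ(C, V),
        e.hom ≫ CohB1.ProjSpace.toSpec 1 Γ(C, V) = pullback.snd p (hV.fromSpec ≫ p) := by
  have hq : ModFun.IsCurveOfGenus 0 (pullback.snd p p) := isCurveOfGenus_baseChange hp (IsPullback.of_hasPullback p p)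
  haveI : Smooth (pullback.snd p p) := hq.1
  haveI : IsProper (pullback.snd p p) := hq.2.1
  haveI : GeometricallyIrreducible (pullback.snd p p) := hq.2.2.1
  haveI := geometricallyConnected_of_irreducible (pullback.snd p p)
  haveI := smoothOfRelativeDimension_of_geom (pullback.snd p p) fun s => (geom_line hq s).1
  have hg : Genus0 (pullback.snd p p) := genus0_of_geom _ fun s => (geom_line hq s).2
  obtain ⟨V, hV, hc, e, he⟩ := exists_local_triv (pullback.snd p p) hg
    (σ := pullback.diagonal p) (pullback.diagonal_snd p) c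
  refine ⟨V, hV, hc, (pullbackLeftPullbackSndIso p p hV.fromSpec).symm ≪≫ e, ?_⟩
  rw [Iso.trans_hom, Category.assoc, he]
  simp

end Groth.L21.P1Fam
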