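import Groth.Agent.L21.P1Fam.Geom
import Groth.Agent.L12.RR.Def.Base
import Groth.Agent.L14.Quot.Pull
import Groth.Agent.L13.Canon.Conormal

/-!
Sections with disjoint images split the direct image of a family of lines.
-/

set_option autoImplicit false
set_option linter.style.haveILetI false
set_option linter.unusedSectionVars false
set_option backward.isDefEq.respectTransparency false
set_option backward.isDefEq.respectTransparency.types false

universe u

open CategoryTheory CategoryTheory.Limits AlgebraicGeometry TopologicalSpace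

noncomputable section

namespace Groth.L21.P1Fam

local notation "pb" => Scheme.Modules.pullback

/-- Over a point a nonzero map into an invertible module is surjective. -/
theorem epi_of_ne_zero {T : Scheme.{u}} [IsIntegral T] [Subsingleton T] {K L : T.Modules} (hL : PicF.IsInvertible L)
    (φ : K ⟶ L) (h : φ ≠ 0) : Epi φ := by
  refine (Groth.L21.Mod.epi_iff_stalk_surjective φ).2 fun z => ?_
  obtain ⟨a, ha⟩ := Groth.L21.RR.exists_frame_stalk hL z
  obtain ⟨k, hk⟩ : ∃ k, ((Groth.L00.Stk.F T z).map φ) k ≠ 0 := by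
    by_contra hall
    push Not at hall
    refine h (Groth.L21.Mod.hom_ext_stalk fun w => ?_)
    refine ConcreteCategory.hom_ext _ _ fun v => ?_
    obtain rfl : w = z := Subsingleton.elim _ _
    rw [Functor.map_zero]
    exact hall v
  intro v
  obtain ⟨c, hc⟩ := ha.2 (((Groth.L00.Stk.F T z).map φ) k)
  obtain ⟨d, hd⟩ := ha.2 v
  have hf : IsField (T.presheaf.stalk z) := by
    rw [Subsingleton.elim z (genericPoint T)]
    exact Field.toIsField T.functionField
  have hc0 : c ≠ 0 := by
    rintro rfl
    exact hk (hc.symm.trans (zero_smul _ _))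
  obtain ⟨c', hc'⟩ := hf.mul_inv_cancel hc0
  refine ⟨(d * c') • k, ?_⟩
  show ((Groth.L00.Stk.F T z).map φ).hom ((d * c') • k) = v
  refine (map_smul _ _ _).trans ?_
  refine (congrArg ((d * c') • ·) hc.symm).trans ?_
  show (d * c') • (c • a) = v
  rw [smul_smul, mul_assoc, mul_comm c' c, hc', mul_one]
  exact hd

/-- An epimorphism on all the fibres is an epimorphism. -/
theorem epi_of_points {S : Scheme.{u}} {F G : S.Modules} (hG : Coh.IsCoh G) (u : F ⟶ G)
    (h : ∀ y : S, Epi ((pb (S.fromSpecResidueField y)).map u)) : Epi u := by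
  refine (Groth.L21.Mod.epi_iff_stalk_surjective _).2 fun y => ?_
  have hι : (𝟙 S : S ⟶ S).fiberι y = (𝟙 S : S ⟶ S).fiberToSpecResidueField y ≫ S.fromSpecResidueField y :=
    (Category.comp_id _).symm.trans ((𝟙 S : S ⟶ S).fiber_fac y)
  haveI : Epi ((pb ((𝟙 S : S ⟶ S).fiberι y)).map u) := by
    rw [hι]
    haveI := h y
    haveI := Groth.L14.Quot.epi_pullback_map ((𝟙 S : S ⟶ S).fiberToSpecResidueField y)
      ((pb (S.fromSpecResidueField y)).map u)
    have hn := (Scheme.Modules.pullbackComp ((𝟙 S : S ⟶ S).fiberToSpecResidueField y)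
      (S.fromSpecResidueField y)).hom.naturality u
    haveI : Epi ((pb (S.fromSpecResidueField y) ⋙ pb ((𝟙 S : S ⟶ S).fiberToSpecResidueField y)).map u) := by
      simp only [Functor.comp_map]
      infer_instance
    haveI : Epi ((Scheme.Modules.pullbackComp ((𝟙 S : S ⟶ S).fiberToSpecResidueField y)
        (S.fromSpecResidueField y)).hom.app F ≫
        (pb ((𝟙 S : S ⟶ S).fiberToSpecResidueField y ≫ S.fromSpecResidueField y)).map u) := by
      rw [← hn]
      infer_instance
    exact epi_of_epi ((Scheme.Modules.pullbackComp ((𝟙 S : S ⟶ S).fiberToSpecResidueField y)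
      (S.fromSpecResidueField y)).hom.app F) _
  obtain ⟨z, hz⟩ : y ∈ Set.range ((𝟙 S : S ⟶ S).fiberι y) := by
    rw [Scheme.Hom.range_fiberι]; rfl
  rw [← hz]
  exact Groth.L16.Rees.FibreMonoEpi.surjective_stalk (𝟙 S) y hG u z

variable {X S : Scheme.{u}} {f : X ⟶ S} {E : S.Modules} {L : X.Modules} {q : (pb f).obj E ⟶ L}

/-- Two points of a projective bundle with the same quotient line coincide. -/
theorem point_eq (hP : KRR.IsProjBundle f E L q) (hL : PicF.IsInvertible L) {σ τ : S ⟶ X} (hσ : σ ≫ f = 𝟙 S)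
    (hτ : τ ≫ f = 𝟙 S) {T : Scheme.{u}} (g : T ⟶ S) (t : (pb g).obj ((pb σ).obj L) ≅ (pb g).obj ((pb τ).obj L))
    (ht : (pb g).map (Grass.quotBC hσ q) ≫ t.hom = (pb g).map (Grass.quotBC hτ q)) :
    g ≫ σ = g ≫ τ := by
  haveI := hP.epi
  have ha : g ≫ 𝟙 S = g := Category.comp_id g
  have h1 : (g ≫ σ) ≫ f = g := by rw [Category.assoc, hσ, Category.comp_id]
  have h2 : (g ≫ τ) ≫ f = g := by rw [Category.assoc, hτ, Category.comp_id]
  have key : Grass.quotBC h1 q ≫ ((Scheme.Modules.pullbackComp g σ).symm.app L ≪≫ t ≪≫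
      (Scheme.Modules.pullbackComp g τ).app L).hom = Grass.quotBC h2 q := by
    rw [← Groth.L18.MapEpi.quotBC_quotBC hσ ha h1 q, ← Groth.L18.MapEpi.quotBC_quotBC hτ ha h2 q]
    have ht' := ht
    simp only [Grass.quotBC, Functor.map_comp, Category.assoc] at ht'
    simp [Grass.quotBC, reassoc_of% ht']
  haveI := Groth.L18.MapEpi.epi_quotBC h2 q
  exact ((Grass.IsGrass.of_isProjBundle hP).univ T g _
    (Groth.L22.Bundle.isFinLocFree_one (Groth.L18.Ample.isInvertible_pullback _ hL)) (Grass.quotBC h2 q)
    inferInstance).unique ⟨h1, _, key⟩ ⟨h2, Iso.refl _, Category.comp_id _⟩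

/-- The evaluation at two disjoint sections is an isomorphism. -/
theorem isIso_lift (hP : KRR.IsProjBundle f E L q) (hE : FlatMod.IsFinLocFreeOfRank 2 E) (hL : PicF.IsInvertible L)
    {σ τ : S ⟶ X} (hσ : σ ≫ f = 𝟙 S) (hτ : τ ≫ f = 𝟙 S) (hd : Disjoint (Set.range σ) (Set.range τ)) :
    IsIso (biprod.lift (Grass.quotBC hσ q) (Grass.quotBC hτ q)) := by
  haveI := hP.epi
  haveI := Groth.L18.MapEpi.epi_quotBC hσ q
  haveI := Groth.L18.MapEpi.epi_quotBC hτ q
  set a := Grass.quotBC hσ q
  set b := Grass.quotBC hτ q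
  have hA := Groth.L18.Ample.isInvertible_pullback σ hL
  have hB := Groth.L18.Ample.isInvertible_pullback τ hL
  have hAB : FlatMod.IsFinLocFreeOfRank (1 + 1) ((pb σ).obj L ⊞ (pb τ).obj L) :=
    Groth.L13.Canon.isFinLocFreeOfRank_middle
      (S := ShortComplex.mk (biprod.inl : (pb σ).obj L ⟶ (pb σ).obj L ⊞ (pb τ).obj L) biprod.snd biprod.inl_snd)
      (ShortComplex.Splitting.shortExact
        { r := biprod.fst, s := biprod.inr, f_r := biprod.inl_fst, s_g := biprod.inr_snd, id := biprod.total })
      (Groth.L22.Bundle.isFinLocFree_one hA) (Groth.L22.Bundle.isFinLocFree_one hB)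
  haveI : Epi (biprod.lift a b) := by
    refine epi_of_points (Groth.L16.NegPow.isCoh_of_isFinLocFree (Groth.L22.CurveDeg.isFinLocFree_of_rank hAB)) _ fun y => ?_
    let g := S.fromSpecResidueField y
    haveI : IsIntegral (Spec (S.residueField y)) := inferInstance
    haveI : Subsingleton ↥(Spec (S.residueField y)) := inferInstanceAs (Subsingleton (PrimeSpectrum (S.residueField y)))
    haveI : (pb g).Additive := (Scheme.Modules.pullbackPushforwardAdjunction g).left_adjoint_additive
    haveI := Groth.L14.Quot.epi_pullback_map g a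
    haveI := Groth.L14.Quot.epi_pullback_map g b
    let a' := (pb g).map a
    let b' := (pb g).map b
    by_cases hc : kernel.ι a' ≫ b' = 0
    · exfalso
      let t := Abelian.epiDesc a' b' hc
      have htf : a' ≫ t = b' := Abelian.comp_epiDesc a' b' hc
      haveI : Epi (a' ≫ t) := by rw [htf]; infer_instance
      haveI : Epi t := epi_of_epi a' t
      haveI := Groth.L02.Canon.DescInvertible.isIso_of_epi_invertible t
        (Groth.L18.Ample.isInvertible_pullback g hA) (Groth.L18.Ample.isInvertible_pullback g hB)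
      have heq := point_eq hP hL hσ hτ g (asIso t) htf
      have hy : g (IsLocalRing.closedPoint (S.residueField y)) = y := Scheme.fromSpecResidueField_apply _ _
      refine Set.disjoint_left.1 hd ⟨y, rfl⟩ ⟨y, ?_⟩
      have := congr($heq (IsLocalRing.closedPoint (S.residueField y)))
      rw [Scheme.Hom.comp_apply, Scheme.Hom.comp_apply, hy] at this
      exact this.symm
    · haveI := epi_of_ne_zero (Groth.L18.Ample.isInvertible_pullback g hB) _ hc
      haveI : Epi (biprod.lift a' b') := by
        refine Preadditive.epi_of_cancel_zero _ fun {Z} w hw => ?_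
        have h0 : a' ≫ biprod.inl ≫ w + b' ≫ biprod.inr ≫ w = 0 := by
          rw [← hw, biprod.lift_eq, Preadditive.add_comp, Category.assoc, Category.assoc]
        have h1 : (kernel.ι a' ≫ b') ≫ biprod.inr ≫ w = 0 := by
          have h := congrArg (kernel.ι a' ≫ ·) h0
          simpa [Category.assoc] using h
        have h2 := zero_of_epi_comp _ h1
        rw [h2, comp_zero, add_zero] at h0
        have h3 := zero_of_epi_comp _ h0
        exact biprod.hom_ext' _ _ (by rw [h3, comp_zero]) (by rw [h2, comp_zero])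
      have e : (pb g).map (biprod.lift a b) ≫ biprod.lift ((pb g).map biprod.fst) ((pb g).map biprod.snd) =
          biprod.lift a' b' := by
        apply biprod.hom_ext <;> simp only [Category.assoc, biprod.lift_fst, biprod.lift_snd, ← Functor.map_comp, a', b']
      haveI : IsIso (biprod.lift ((pb g).map (biprod.fst : (pb σ).obj L ⊞ (pb τ).obj L ⟶ _))
          ((pb g).map (biprod.snd : (pb σ).obj L ⊞ (pb τ).obj L ⟶ _))) :=
        haveI : PreservesBinaryBiproducts (pb g) :=
          haveI := (Scheme.Modules.pullbackPushforwardAdjunction g).leftAdjoint_preservesColimits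
          preservesBinaryBiproducts_of_preservesBinaryCoproducts _
        ((pb g).mapBiprod ((pb σ).obj L) ((pb τ).obj L)).isIso_hom
      rw [(IsIso.eq_comp_inv _).2 e]
      infer_instance
  exact Groth.L12.RR.isIso_of_epi_rank _ (Groth.L18.MapEpi.isFinLocFreeOfRank_pullback _ hE) hAB

/-- A projective bundle transports along an isomorphism of the module. -/
theorem isProjBundle_congr (hP : KRR.IsProjBundle f E L q) {E' : S.Modules} (ψ : E' ≅ E) :
    KRR.IsProjBundle f E' L ((pb f).map ψ.hom ≫ q) := by
  haveI := hP.epi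
  refine Grass.IsGrass.isProjBundle ⟨hP.invertible, inferInstance, fun T g L' hL' s hs => ?_⟩
  haveI := hs
  have key : ∀ (r : T ⟶ X) (hr : r ≫ f = g),
      Grass.quotBC hr ((pb f).map ψ.hom ≫ q) = (pb g).map ψ.hom ≫ Grass.quotBC hr q := fun r hr => by
    subst hr
    simp [Grass.quotBC, Scheme.Modules.pullbackCongr]
  obtain ⟨r, ⟨hr, e, he⟩, hu⟩ := (Grass.IsGrass.of_isProjBundle hP).univ T g L' hL' ((pb g).map ψ.inv ≫ s) inferInstance
  refine ⟨r, ⟨hr, e, ?_⟩, fun r' hr' => ?_⟩
  · rw [key, Category.assoc, he, ← Functor.map_comp_assoc, ψ.hom_inv_id, CategoryTheory.Functor.map_id, Category.id_comp]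
  · obtain ⟨hr', e', he'⟩ := hr'
    refine hu r' ⟨hr', e', ?_⟩
    rw [key, Category.assoc] at he'
    rw [← he', ← Category.assoc ((pb g).map ψ.inv), ← Functor.map_comp, ψ.inv_hom_id,
      CategoryTheory.Functor.map_id, Category.id_comp]

end Groth.L21.P1Fam
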