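import Groth.Agent.L21.P1Fam.Sections

/-!
Families of lines with two or three disjoint sections.
-/

set_option autoImplicit false
set_option linter.style.haveILetI false
set_option linter.unusedSectionVars false
set_option backward.isDefEq.respectTransparency false
set_option backward.isDefEq.respectTransparency.types false

universe u

open CategoryTheory CategoryTheory.Limits AlgebraicGeometry TopologicalSpace

noncomputable section

namespace Groth.L21.P1Fam

local notation "pb" => Scheme.Modules.pullback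
attribute [local instance] Groth.Agent.Elliptic.fibOver

variable {X S : Scheme.{u}} {f : X ⟶ S} {E : S.Modules} {L : X.Modules} {q : (pb f).obj E ⟶ L}

/-- Two disjoint sections split a projective bundle. -/
theorem exists_split_iso (hP : KRR.IsProjBundle f E L q) (hE : FlatMod.IsFinLocFreeOfRank 2 E) (hL : PicF.IsInvertible L)
    {σ τ : S ⟶ X} (hσ : σ ≫ f = 𝟙 S) (hτ : τ ≫ f = 𝟙 S) (hd : Disjoint (Set.range σ) (Set.range τ)) :
    Nonempty (E ≅ (pb σ).obj L ⊞ (pb τ).obj L) := by
  haveI := isIso_lift hP hE hL hσ hτ hd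
  exact ⟨((Scheme.Modules.pullbackId S).app E).symm ≪≫ asIso (biprod.lift (Grass.quotBC hσ q) (Grass.quotBC hτ q))⟩

/-- The coordinate of a third disjoint section is invertible. -/
theorem isIso_coord (hP : KRR.IsProjBundle f E L q) (hL : PicF.IsInvertible L) {σ τ ρ : S ⟶ X}
    (hσ : σ ≫ f = 𝟙 S) (hτ : τ ≫ f = 𝟙 S) (hρ : ρ ≫ f = 𝟙 S) (hτρ : Disjoint (Set.range τ) (Set.range ρ))
    (c₁ : (pb σ).obj L ⟶ (pb ρ).obj L) (c₂ : (pb τ).obj L ⟶ (pb ρ).obj L)
    (h : Grass.quotBC hσ q ≫ c₁ + Grass.quotBC hτ q ≫ c₂ = Grass.quotBC hρ q) : IsIso c₁ := by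
  haveI := hP.epi
  have hA := Groth.L18.Ample.isInvertible_pullback σ hL
  have hB := Groth.L18.Ample.isInvertible_pullback τ hL
  have hC := Groth.L18.Ample.isInvertible_pullback ρ hL
  haveI : Epi c₁ := by
    refine epi_of_points (Groth.L16.NegPow.isCoh_of_isFinLocFree
      (Groth.L16.Existence.isFinLocFree_of_isInvertible hC)) _ fun y => ?_
    let g := S.fromSpecResidueField y
    haveI : IsIntegral (Spec (S.residueField y)) := inferInstance
    haveI : Subsingleton ↥(Spec (S.residueField y)) := inferInstanceAs (Subsingleton (PrimeSpectrum (S.residueField y)))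
    haveI : (pb g).Additive := (Scheme.Modules.pullbackPushforwardAdjunction g).left_adjoint_additive
    refine epi_of_ne_zero (Groth.L18.Ample.isInvertible_pullback g hC) _ fun hc => ?_
    have hg : (pb g).map (Grass.quotBC hτ q) ≫ (pb g).map c₂ = (pb g).map (Grass.quotBC hρ q) := by
      rw [← h, Functor.map_add, Functor.map_comp _ _ c₁, Functor.map_comp _ _ c₂, hc, comp_zero, zero_add]
    haveI := Groth.L18.MapEpi.epi_quotBC hρ q
    haveI := Groth.L14.Quot.epi_pullback_map g (Grass.quotBC hρ q)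
    haveI : Epi ((pb g).map (Grass.quotBC hτ q) ≫ (pb g).map c₂) := by rw [hg]; infer_instance
    haveI : Epi ((pb g).map c₂) := epi_of_epi ((pb g).map (Grass.quotBC hτ q)) _
    haveI := Groth.L02.Canon.DescInvertible.isIso_of_epi_invertible ((pb g).map c₂)
      (Groth.L18.Ample.isInvertible_pullback g hB) (Groth.L18.Ample.isInvertible_pullback g hC)
    have heq := point_eq hP hL hτ hρ g (asIso ((pb g).map c₂)) hg
    have hy : g (IsLocalRing.closedPoint (S.residueField y)) = y := Scheme.fromSpecResidueField_apply _ _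
    refine Set.disjoint_left.1 hτρ ⟨y, rfl⟩ ⟨y, ?_⟩
    have := congr($heq (IsLocalRing.closedPoint (S.residueField y)))
    rw [Scheme.Hom.comp_apply, Scheme.Hom.comp_apply, hy] at this
    exact this.symm
  exact Groth.L02.Canon.DescInvertible.isIso_of_epi_invertible c₁ hA hC

/-- Three disjoint sections trivialise a projective bundle whose twisting module is trivial along the third. -/
theorem exists_free_iso (hP : KRR.IsProjBundle f E L q) (hE : FlatMod.IsFinLocFreeOfRank 2 E) (hL : PicF.IsInvertible L)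
    {σ τ ρ : S ⟶ X} (hσ : σ ≫ f = 𝟙 S) (hτ : τ ≫ f = 𝟙 S) (hρ : ρ ≫ f = 𝟙 S)
    (h₁₂ : Disjoint (Set.range σ) (Set.range τ)) (h₁₃ : Disjoint (Set.range σ) (Set.range ρ))
    (h₂₃ : Disjoint (Set.range τ) (Set.range ρ)) (e : (pb ρ).obj L ≅ Coh.structureModule S) :
    Nonempty (E ≅ FlatMod.freeMod S 2) := by
  haveI := isIso_lift hP hE hL hσ hτ h₁₂
  set ψ := biprod.lift (Grass.quotBC hσ q) (Grass.quotBC hτ q)
  let d : (pb σ).obj L ⊞ (pb τ).obj L ⟶ (pb ρ).obj L := inv ψ ≫ Grass.quotBC hρ q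
  have h : Grass.quotBC hσ q ≫ (biprod.inl ≫ d) + Grass.quotBC hτ q ≫ (biprod.inr ≫ d) = Grass.quotBC hρ q := by
    rw [← Category.assoc (Grass.quotBC hσ q), ← Category.assoc (Grass.quotBC hτ q), ← Preadditive.add_comp, ← biprod.lift_eq]
    exact IsIso.hom_inv_id_assoc _ _
  haveI := isIso_coord hP hL hσ hτ hρ h₂₃ _ _ h
  haveI := isIso_coord hP hL hτ hσ hρ h₁₃ _ _ (by rw [add_comm]; exact h)
  have hfree : Nonempty (Coh.structureModule S ⊞ Coh.structureModule S ≅ FlatMod.freeMod S 2) := by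
    exact ⟨{
      hom := biprod.desc (Sigma.ι (fun _ : Fin 2 => Coh.structureModule S) 0)
        (Sigma.ι (fun _ : Fin 2 => Coh.structureModule S) 1)
      inv := Sigma.desc ![biprod.inl, biprod.inr]
      hom_inv_id := by
        apply biprod.hom_ext'
        · rw [biprod.inl_desc_assoc]; erw [Sigma.ι_desc, Category.comp_id]; rfl
        · rw [biprod.inr_desc_assoc]; erw [Sigma.ι_desc, Category.comp_id]; rfl
      inv_hom_id := Sigma.hom_ext _ _ fun i => by
        fin_cases i
        · erw [Sigma.ι_desc_assoc, Category.comp_id]; exact biprod.inl_desc _ _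
        · erw [Sigma.ι_desc_assoc, Category.comp_id]; exact biprod.inr_desc _ _ }⟩
  obtain ⟨ff⟩ := hfree
  exact ⟨((Scheme.Modules.pullbackId S).app E).symm ≪≫ asIso ψ ≪≫
    biprod.mapIso (asIso (biprod.inl ≫ d) ≪≫ e) (asIso (biprod.inr ≫ d) ≪≫ e) ≪≫ ff⟩

variable [IsProper f] [SmoothOfRelativeDimension 1 f] [GeometricallyConnected f]

/-- A degree one module trivial along a given section. -/
theorem exists_deg1_trivial_along {ρ : S ⟶ X} (hρ : ρ ≫ f = 𝟙 S) :
    ∃ L' : X.Modules, PicF.IsInvertible L' ∧ Deg1 f L' ∧ Nonempty ((pb ρ).obj L' ≅ Coh.structureModule S) := by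
  obtain ⟨L, hL, hd, -⟩ := exists_deg1_of_section f hρ
  obtain ⟨N, hN, ⟨e⟩⟩ := Groth.L08.Cube.exists_inverse (Groth.L18.Ample.isInvertible_pullback ρ hL)
  refine ⟨CohB1.tensorMod L ((pb f).obj N),
    Groth.L18.GenLoc.isInvertible_tensor hL (Groth.L18.Ample.isInvertible_pullback f hN), fun s => ?_, ?_⟩
  · obtain ⟨t⟩ := Groth.Agent.Elliptic.nonempty_fibre_base (f := f) hN s
    haveI := Groth.Agent.Elliptic.isProper_fibre f s
    exact (Groth.L21.RR.deg_congr (S.residueField s) ((Groth.L29.DC.PullTensor.pullTensor (f.fiberι s) L _).symm ≪≫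
      Groth.L00.Tensor.tensorIso (Iso.refl _) t ≪≫ Groth.L00.Tensor.tensorUnitRight _) 1).trans (hd s)
  · exact ⟨(Groth.L29.DC.PullTensor.pullTensor ρ L _).symm ≪≫ Groth.L00.Tensor.tensorIso (Iso.refl _)
      ((Scheme.Modules.pullbackComp ρ f).app N ≪≫ (Scheme.Modules.pullbackCongr hρ).app N ≪≫
        (Scheme.Modules.pullbackId S).app N) ≪≫ e⟩

end Groth.L21.P1Fam
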