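import Groth.Agent.L21.P1Fam.Geom
import Groth.Agent.L07.SmoothFibre
import Groth.Agent.L17.BC.GenApply
import Groth.Agent.L08.Cube.SeesawH0
import Groth.Agent.L16.Connected.AppIso
import Groth.Agent.L16.Rees.ClosedFibre
import Groth.Agent.L26.Weil.Axes
import Groth.Agent.S16506

/-!
A surface fibred in lines over a curve is smooth with geometrically connected fibres of genus zero.
-/

set_option autoImplicit false
set_option linter.style.haveILetI false
set_option linter.unusedSectionVars false
set_option backward.isDefEq.respectTransparency false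
set_option backward.isDefEq.respectTransparency.types false

universe u

open CategoryTheory CategoryTheory.Limits AlgebraicGeometry TopologicalSpace

noncomputable section

namespace Groth.L21.P1Fam

attribute [local instance] Groth.Agent.Elliptic.fibOver

theorem subsingleton_h1_projLine (k : Type u) [Field k] :
    Subsingleton (Coh.HH (CohB1.ProjSpace 1 k) (Coh.structureModule (CohB1.ProjSpace 1 k)) 1) := by
  obtain ⟨τ⟩ : Nonempty (Twist.twistProjSpace 1 k 0 ≅ Coh.structureModule (CohB1.ProjSpace 1 k)) :=
    Groth.L16.ProjTwist.nonempty_twist_zero_iso (CohB1.polyGrading 1 k)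
  haveI := Groth.L16.ProjSpace.subsingleton_HH_twist_pos 1 k 0 0 (Or.inr (by norm_num))
  exact (Groth.L17.BC.HHequiv τ 1).toAddEquiv.toEquiv.symm.subsingleton

/-- A proper scheme over an algebraically closed field isomorphic to a line. -/
theorem line_facts (K : Type u) [Field K] [IsAlgClosed K] (k : Type u) [Field k] {Z : Scheme.{u}}
    (p : Z ⟶ Spec (CommRingCat.of K)) [IsProper p] (e : Z ≅ CohB1.ProjSpace 1 k) :
    Smooth p ∧ IsIntegral Z ∧ topologicalKrullDim Z = 1 ∧
      Subsingleton (Coh.HH Z (Coh.structureModule Z) 1) := by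
  refine ⟨?_, ?_, ?_, Groth.L16.Rees.ClosedFibre.subsingleton_HH_of_iso e.inv 1 (subsingleton_h1_projLine k)⟩
  · refine Groth.L26.Weil.smooth_of_regular_closed p fun x _ => ?_
    letI : (CohB1.ProjSpace 1 k).Over (Spec (CommRingCat.of k)) := ⟨CohB1.ProjSpace.toSpec 1 k⟩
    haveI : Smooth (CohB1.ProjSpace.toSpec 1 k) := Groth.L16.ProjSpace.smooth_toSpec (n := 1) (R := k)
    haveI := Groth.L21.Smooth.regular_stalk (k := k) (CohB1.ProjSpace.toSpec 1 k) (e.hom x)
    haveI : IsIso (e.hom.stalkMap x) := inferInstance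
    exact IsRegularLocalRing.of_ringEquiv (asIso (e.hom.stalkMap x)).commRingCatIsoToRingEquiv
  · haveI := Groth.L16.ProjSpace.isIntegral 1 k
    haveI : Nonempty Z := ⟨e.inv (genericPoint ↥(CohB1.ProjSpace 1 k))⟩
    exact isIntegral_of_isOpenImmersion e.hom
  · rw [IsHomeomorph.topologicalKrullDim_eq _ e.hom.homeomorph.isHomeomorph]
    exact Groth.L16.ProjSpace.topologicalKrullDim_eq_of_field 1 k

variable (k : Type u) [Field k] [IsAlgClosed k] {X B : Scheme.{u}} [B.Over (Spec (CommRingCat.of k))]
  [IsProper (B ↘ Spec (CommRingCat.of k))] [IsIntegral B] [IsIntegral X] (π : X ⟶ B) [IsProper π] [Flat π] [LocallyOfFinitePresentation π]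
  (hfib : ∀ b : B, IsClosed ({b} : Set B) → Nonempty (π.fiber b ≅ CohB1.ProjSpace 1 k))

omit [IsIntegral X] [Flat π] [LocallyOfFinitePresentation π] in
include hfib in
theorem closed_fibre {b : B} (hb : IsClosed ({b} : Set B)) :
    Smooth (π.fiberToSpecResidueField b) ∧ topologicalKrullDim ↥(π.fiber b) = 1 ∧
      Subsingleton (CohIII.fiberH π (Coh.structureModule X) b 1) ∧
      CohIII.fiberRank π (Coh.structureModule X) 0 b = 1 := by
  letI : Algebra k (B.residueField b) := Curv2.resAlgebra k B b
  haveI : Module.Finite k (B.residueField b) := Groth.L21.Disc.finite_residueField_of_isClosed k hb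
  haveI : IsAlgClosed (B.residueField b) :=
    IsAlgClosed.of_ringEquiv k _ (RingEquiv.ofBijective (algebraMap k (B.residueField b))
      IsAlgClosed.algebraMap_bijective_of_isIntegral)
  haveI := Groth.Agent.Elliptic.isProper_fibre π b
  obtain ⟨e⟩ := hfib b hb
  haveI : IsProper (π.fiberToSpecResidueField b) := inferInstanceAs (IsProper (pullback.snd π _))
  obtain ⟨hsm, hint, hdim, h1⟩ := line_facts (B.residueField b) k (π.fiberToSpecResidueField b) e
  haveI := hint
  let i : (Scheme.Modules.pullback (π.fiberι b)).obj (Coh.structureModule X) ≅ Coh.structureModule (π.fiber b) :=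
    Groth.L29.LocFree.pullbackUnitIso _
  refine ⟨hsm, hdim, (Groth.L17.BC.HHequiv i 1).toAddEquiv.toEquiv.subsingleton, ?_⟩
  show Groth.L21.RR.h (B.residueField b) 0 ((Scheme.Modules.pullback (π.fiberι b)).obj (Coh.structureModule X)) = 1
  rw [Groth.L21.RR.h_congr (B.residueField b) i 0]
  exact Groth.L21.RR.h0_eq_one_of_isAlgClosed (B.residueField b)

omit [IsIntegral X] [Flat π] [LocallyOfFinitePresentation π] [IsProper π] in
include k in
/-- An open of the curve containing the closed points is everything. -/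
theorem open_eq_univ {U : Set B} (hU : IsOpen U) (h : ∀ b : B, IsClosed ({b} : Set B) → b ∈ U) (b : B) : b ∈ U := by
  haveI := Groth.L21.RR.isNoetherian_of_proper (X := B) k
  obtain ⟨z, hz, hbz⟩ := Groth.L21.RR.exists_closed_specialization b
  exact hbz.mem_open hU (h z hz)

include hfib in
theorem smooth_surface : Smooth π :=
  Groth.L07.SmoothFibre.smooth_of_fibres π fun b =>
    open_eq_univ k (Groth.L07.SmoothFibre.isOpen_smooth_fibre π) (fun z hz => (closed_fibre k π hfib hz).1) b

include hfib in
theorem fibre_h (b : B) (hne : Nonempty (π.fiber b)) :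
    Subsingleton (CohIII.fiberH π (Coh.structureModule X) b 1) ∧
      GeometricallyConnected (π.fiberToSpecResidueField b) := by
  haveI : Coh.IsQCoh (Coh.structureModule X) := Groth.L21.Extend.isQCoh_of_isInvertible (Groth.L18.Ample.isInvertible_structureModule X)
  have hfp : CohB1.IsFP (Coh.structureModule X) := isFP_of_inv (Groth.L18.Ample.isInvertible_structureModule X)
  have hfl : FlatMod.IsFlatOver π (Coh.structureModule X) :=
    Groth.L29.DC.RelTor.isFlatOver_of_isFlat π (Groth.L21.RR.isFlat_of_isInvertible (Groth.L18.Ample.isInvertible_structureModule X))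
  refine ⟨open_eq_univ k (Groth.L17.BC.isOpen_subsingleton_fiberH π _ hfp hfl 1)
    (fun z hz => (closed_fibre k π hfib hz).2.2.1) b, ?_⟩
  have hle : CohIII.fiberRank π (Coh.structureModule X) 0 b < 2 :=
    open_eq_univ k (Groth.L17.BC.isOpen_fiberRank_lt π _ hfp hfl 0 2)
      (fun z hz => show CohIII.fiberRank π (Coh.structureModule X) 0 z < 2 by rw [(closed_fibre k π hfib hz).2.2.2]; norm_num) b
  let j : π.fiber b ⟶ Spec (CommRingCat.of (B.residueField b)) := π.fiberToSpecResidueField b
  haveI : IsProper j := inferInstanceAs (IsProper (pullback.snd π _))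
  haveI := Groth.Agent.Elliptic.isProper_fibre π b
  let i : (Scheme.Modules.pullback (π.fiberι b)).obj (Coh.structureModule X) ≅ Coh.structureModule (π.fiber b) :=
    Groth.L29.LocFree.pullbackUnitIso _
  have hh : Groth.L21.RR.h (B.residueField b) 0 (Coh.structureModule (π.fiber b)) < 2 := by
    rw [← Groth.L21.RR.h_congr (B.residueField b) i 0]
    exact hle
  haveI := Groth.L21.RR.isNoetherian_of_proper (X := π.fiber b) (B.residueField b)
  haveI := Groth.L21.RR.finite_HH' (B.residueField b) (Groth.L16.CohClosedPush.isCoh_structure (X := π.fiber b)) 0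
  haveI : Nontrivial (Coh.HH (π.fiber b) (Coh.structureModule (π.fiber b)) 0) := by
    haveI : Nonempty ((⊤ : (π.fiber b).Opens) : Scheme) := ⟨⟨hne.some, trivial⟩⟩
    haveI : Nontrivial Γ(π.fiber b, ⊤) := inferInstance
    haveI : Nontrivial (Γ(Coh.structureModule (π.fiber b), ⊤) : Type u) := inferInstanceAs (Nontrivial Γ(π.fiber b, ⊤))
    exact (Groth.L21.RR.e0 (Coh.structureModule (π.fiber b))).toEquiv.nontrivial
  have hpos : 0 < Groth.L21.RR.h (B.residueField b) 0 (Coh.structureModule (π.fiber b)) := Module.finrank_pos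
  obtain ⟨-, hb⟩ := Groth.L08.Cube.bijective_toGlobal_of_finrank j
    (show Groth.L21.RR.h (B.residueField b) 0 (Coh.structureModule (π.fiber b)) = 1 by omega)
  have hbij : Function.Bijective (j.app ⊤) := by
    have h2 := hb
    rw [show (Coh.toGlobal j : _ → _) = (j.app ⊤).hom ∘ (Scheme.ΓSpecIso (CommRingCat.of (B.residueField b))).inv.hom from rfl] at h2
    exact (Function.Bijective.of_comp_iff _ (ConcreteCategory.bijective_of_isIso (Scheme.ΓSpecIso _).inv)).1 h2
  exact Groth.L16.Connected.geometricallyConnected j fun U =>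
    (Groth.L16.Connected.isIso_app_le j (isAffineOpen_top _) hbij).1 U le_top

include hfib in
/-- A surface fibred in lines is a projective bundle. -/
theorem exists_isProjBundle_surface [X.Over (Spec (CommRingCat.of k))] (hX2 : topologicalKrullDim X = 2)
    (hX : ∃ (N : ℕ) (ι : X ⟶ CohB1.ProjSpace N k), IsClosedImmersion ι ∧
      ι ≫ CohB1.ProjSpace.toSpec N k = X ↘ Spec (CommRingCat.of k))
    (hB : Curve.IsSmoothProperCurve k B (B ↘ Spec (CommRingCat.of k)))
    (hπ : π ≫ (B ↘ Spec (CommRingCat.of k)) = X ↘ Spec (CommRingCat.of k))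
    (hsurj : Function.Surjective π.base) :
    ∃ (E : B.Modules) (L : X.Modules) (q : (Scheme.Modules.pullback π).obj E ⟶ L),
      FlatMod.IsFinLocFreeOfRank 2 E ∧ KRR.IsProjBundle π E L q := by
  haveI := smooth_surface k π hfib
  haveI : Smooth (B ↘ Spec (CommRingCat.of k)) := hB.2.1
  have hne : ∀ b : B, Nonempty (π.fiber b) := fun b => by
    obtain ⟨x, rfl⟩ := hsurj b
    exact ⟨π.asFiber x⟩
  haveI : GeometricallyConnected π :=
    (GeometricallyConnected.iff_geometricallyConnected_fiber π).2 fun b => (fibre_h k π hfib b (hne b)).2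
  haveI : IsDominant π := ⟨hsurj.denseRange⟩
  have hdim : ∀ b : B, topologicalKrullDim ↥(π.fiber b) = 1 := fun b => by
    by_cases hb : IsClosed ({b} : Set B)
    · exact (closed_fibre k π hfib hb).2.1
    · rw [Groth.L21.RR.eq_genericPoint_of_not_isClosed hB.2.2.2.le hb]
      haveI : IsProper (π ≫ (B ↘ Spec (CommRingCat.of k))) := inferInstance
      haveI : LocallyOfFiniteType (X ↘ Spec (CommRingCat.of k)) := by rw [← hπ]; infer_instance
      exact Groth.L21.Conic.fibre_dim_generic (X ↘ Spec (CommRingCat.of k)) (B ↘ Spec (CommRingCat.of k)) π hπ hX2 hB.2.2.2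
  haveI := Groth.L21.OmegaFam.smoothOfRelativeDimension_one π hdim
  have hg : Genus0 π := fun b => by
    haveI := (fibre_h k π hfib b (hne b)).1
    haveI : Subsingleton (Coh.HH (π.fiber b) (Coh.structureModule (π.fiber b)) 1) :=
      (Groth.L17.BC.HHequiv (Groth.L29.LocFree.pullbackUnitIso (π.fiberι b)) 1).toAddEquiv.toEquiv.symm.subsingleton
    exact Module.finrank_zero_of_subsingleton
  haveI : GeometricallyIntegral (π.fiberToSpecResidueField (genericPoint B)) :=
    (Groth.L21.OmegaFam.fibre_facts π (genericPoint B)).2.2.1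
  obtain ⟨σ, hσ⟩ := Groth.Agent.S16506.result k X hX2 hX B hB π hπ hsurj (hg (genericPoint B))
  obtain ⟨E, hE, L, q, hP⟩ := exists_isProjBundle_of_section π hg hσ
  exact ⟨E, L, q, hE, hP⟩

end Groth.L21.P1Fam
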